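import Mathlib
import Cfsg.Agent.Lib.helper17.T3.Defs

/-!
# Project T3C, blocks R + T (sub-designer helper24; family T3 of helper17, for S2110) — definitions

* operations on rank one systems `St K G` (helper15): `mapSt φ T`, `flipSt T`, `scaleSt T d hd`, `conjSt T g`;
* `ShortLift S π`: a coherent family of lifts of the SHORT root elements of a Steinberg system `S : SysT C G` of type `³D₄` to a central extension `π : Γ →* G`: additive and equivariant under EVERY `g : Γ` whose image acts on a pair of opposite short root groups by `t ↦ d t`, `t ↦ d⁻¹ t`;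
* `CLT S π`: lifts of root elements commute, for the two same-root families and the five commuting families of `SysT` (same index shapes as `c_sl0 … c_ls2`).
-/

set_option autoImplicit false

namespace Cfsg.Agent.Lib.Helper24.T3C

open Cfsg.Agent.Lib.helper15.St2 Cfsg.Agent.Lib.helper7.Ce Cfsg.Agent.Lib.helper17.T3

section st

variable {K : Type*} [Field K] {G H : Type*} [Group G] [Group H]

/-- the image of a rank one system under a homomorphism -/
def mapSt (φ : G →* H) (T : St K G) : St K H where
  X b t := φ (T.X b t)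
  add b t u := by rw [← map_mul, T.add]
  rel b t u ht := by rw [← map_mul, ← map_mul, ← map_cj, T.rel b t u ht]

/-- the two root groups exchanged -/
def flipSt (T : St K G) : St K G where
  X b t := T.X (!b) t
  add b t u := T.add (!b) t u
  rel b t u ht := T.rel (!b) t u ht

/-- the scalar of `scaleSt` on the root group `b` -/
def scl (d : K) (b : Bool) : K := if b then d else d⁻¹

/-- the parameters rescaled: `X true t ↦ X true (d t)`, `X false t ↦ X false (d⁻¹ t)` -/
def scaleSt (T : St K G) (d : K) (hd : d ≠ 0) : St K G where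
  X b t := T.X b (scl d b * t)
  add b t u := by rw [T.add, mul_add]
  rel b t u ht := by
    have hb : scl d b ≠ 0 := by
      unfold scl; split_ifs
      · exact hd
      · exact inv_ne_zero hd
    have hnb : scl d (!b) = (scl d b)⁻¹ := by
      unfold scl; cases b <;> simp
    have h := T.rel b (scl d b * t) (scl d b * u) (mul_ne_zero hb ht)
    have e1 : scl d (!b) * -t⁻¹ = -(scl d b * t)⁻¹ := by
      rw [hnb]; field_simp
    have e2 : scl d (!b) * -(t⁻¹ ^ 2 * u) = -((scl d b * t)⁻¹ ^ 2 * (scl d b * u)) := by
      rw [hnb]; field_simp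
    rw [e1, e2]
    exact h

/-- the conjugate system -/
def conjSt (T : St K G) (g : G) : St K G where
  X b t := cj g (T.X b t)
  add b t u := by rw [← cj_mul, T.add]
  rel b t u ht := by rw [← cj_mul, ← cj_mul, cj_cj, ← T.rel b t u ht, cj_cj]; unfold cj; group

end st

variable {F K : Type*} [Field F] [Field K] [Algebra F K] {C : Cub F K} {G : Type*} [Group G] {Γ : Type*} [Group Γ]

/-- A coherent lift of the short root elements to `Γ`. -/
structure ShortLift (S : SysT C G) (π : Γ →* G) where
  xs : ZMod 6 → K → Γ
  map_xs : ∀ k t, π (xs k t) = S.xs k t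
  adds : ∀ k s t, xs k s * xs k t = xs k (s + t)
  equi : ∀ (g : Γ) (k k' : ZMod 6) (d : K), d ≠ 0 →
    (∀ t, cj (π g) (S.xs k t) = S.xs k' (d * t)) →
    (∀ t, cj (π g) (S.xs (k + 3) t) = S.xs (k' + 3) (d⁻¹ * t)) →
    ∀ t, cj g (xs k t) = xs k' (d * t)

/-- Lifts of root elements commute: the same-root pairs and the five commuting families. -/
structure CLT (S : SysT C G) (π : Γ →* G) : Prop where
  ss0 : ∀ k s t, CL π (S.xs k s) (S.xs k t)
  ll0 : ∀ k c d, CL π (S.xl k c) (S.xl k d)
  sl0 : ∀ k s c, CL π (S.xs k s) (S.xl k c)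
  sl1 : ∀ k s c, CL π (S.xs k s) (S.xl (k + 1) c)
  ls1 : ∀ k c s, CL π (S.xl k c) (S.xs (k + 1) s)
  ll1 : ∀ k c d, CL π (S.xl k c) (S.xl (k + 1) d)
  ls2 : ∀ k c s, CL π (S.xl k c) (S.xs (k + 2) s)

end Cfsg.Agent.Lib.Helper24.T3C
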